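import Cfsg.Agent.Lib.SUMax.Basic
import Cfsg.Agent.Lib.RegUnip.Basic

/-!
Regular unipotent elements of unitary groups: the inductive step, conjugates, and the additive
group of directions of root maps with a given centre lying in a subgroup.
-/

set_option autoImplicit false

namespace CfsgLib.RegUnip

open CfsgLib.Forms CfsgLib.ClMax CfsgLib.RootMax CfsgLib.SUMax Module

variable {F : Type*} [Field F] {σ : F →+* F} {V : Type*} [AddCommGroup V] [Module F V]

/-- `g - 1`. -/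
def nil (g : V ≃ₗ[F] V) : End F V := (g : V →ₗ[F] V) - 1

theorem nil_apply (g : V ≃ₗ[F] V) (v : V) : nil g v = g v - v := rfl

theorem nil_pow_succ (g : V ≃ₗ[F] V) (i : ℕ) (v : V) :
    (nil g ^ (i + 1)) v = nil g ((nil g ^ i) v) := by rw [pow_succ', End.mul_apply]

theorem nil_pow_succ' (g : V ≃ₗ[F] V) (i : ℕ) (v : V) :
    (nil g ^ (i + 1)) v = (nil g ^ i) (nil g v) := by rw [pow_succ, End.mul_apply]

/-- An additive subgroup closed under a generating multiplier on a line contains the line. -/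
theorem smul_mem_of_gen (A : AddSubgroup V) {w : V} {η : F}
    (hT : ∀ s : F, s • w ∈ A → (η * s) • w ∈ A) (hgen : ∀ M : Subring F, η ∈ M → M = ⊤) {t : F}
    (ht : t ≠ 0) (h : t • w ∈ A) (s : F) : s • w ∈ A := by
  let M : Subring F :=
    { carrier := {r | ∀ s : F, s • w ∈ A → (r * s) • w ∈ A}
      mul_mem' := fun ha hb s hs => by rw [mul_assoc]; exact ha _ (hb s hs)
      one_mem' := fun s hs => by rwa [one_mul]
      add_mem' := fun ha hb s hs => by rw [add_mul, add_smul]; exact A.add_mem (ha s hs) (hb s hs)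
      zero_mem' := fun s _ => by simp
      neg_mem' := fun ha s hs => by rw [neg_mul, neg_smul]; exact A.neg_mem (ha s hs) }
  have h1 : s / t ∈ M := (hgen M hT).symm ▸ Subring.mem_top _
  simpa [div_mul_cancel₀ _ ht] using h1 t h

/-- The largest subspace contained in an additive subgroup. -/
def core (F : Type*) [Field F] [Module F V] (A : AddSubgroup V) : Submodule F V where
  carrier := {a | ∀ s : F, s • a ∈ A}
  add_mem' ha hb s := by rw [smul_add]; exact A.add_mem (ha s) (hb s)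
  zero_mem' s := by simp
  smul_mem' t a ha s := by rw [smul_smul]; exact ha _

/-- `u` is the root map `rt x y c` composed with `l`. -/
def IsRL (P : PQ σ V) (u l : V ≃ₗ[F] V) (x y : V) (c : F) : Prop := ∀ v, u v = rt P x y c (l v)

/-- Conjugacy under the special isometry group. -/
def Cj (P : PQ σ V) (u u' : V ≃ₗ[F] V) : Prop := ∃ g ∈ SUV P, u' = g * u * g⁻¹

variable {P : PQ σ V} {u l : V ≃ₗ[F] V} {x y : V} {c : F}

theorem Cj.trans {u' u'' : V ≃ₗ[F] V} (h : Cj P u u') (h' : Cj P u' u'') : Cj P u u'' := by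
  obtain ⟨g, hg, rfl⟩ := h
  obtain ⟨k, hk, rfl⟩ := h'
  exact ⟨k * g, mul_mem hk hg, by group⟩

theorem Cj.mem {u' : V ≃ₗ[F] V} (h : Cj P u u') (hu : u ∈ SUV P) : u' ∈ SUV P := by
  obtain ⟨g, hg, rfl⟩ := h
  exact mul_mem (mul_mem hg hu) (inv_mem hg)

theorem IsRL.conj (hu : IsRL P u l x y c) {g : V ≃ₗ[F] V} (hg : P.IsIso g)
    (hc : ∀ v, g (l v) = l (g v)) : IsRL P (g * u * g⁻¹) l (g x) (g y) c := by
  intro v
  obtain ⟨w, rfl⟩ := g.surjective v
  rw [LinearEquiv.mul_apply, LinearEquiv.mul_apply, inv_apply_apply, hu, ← hc]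
  simp only [rt_def, map_add, map_sub, map_smul, hg.B_eq]

section step

variable (hu : IsRL P u l x y c) (hl : P.IsIso l) (hlx : l x = x) (hx : P.B x x = 0)
  (hxy : P.B x y = 0)
include hl hlx

theorem B_fix (v : V) : P.B x (l v) = P.B x v := by
  conv_lhs => rw [← hlx, hl.B_eq]

theorem B_nil (i : ℕ) (v : V) : P.B x ((nil l ^ (i + 1)) v) = 0 := by
  rw [nil_pow_succ, nil_apply, P.B_sub_right, B_fix hl hlx, sub_self]

include hu hx hxy

omit hl in
theorem IsRL.fix : u x = x := by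
  rw [hu, hlx, rt_of_orth P c hx (P.B_eq_zero_comm.1 hxy)]

theorem step_orth (i : ℕ) {v : V} (hv : P.B x v = 0) :
    (nil u ^ (i + 1)) v = (nil l ^ (i + 1)) v + P.B y (l ((nil l ^ i) v)) • x := by
  have h0 : ∀ v, P.B x v = 0 → nil u v = nil l v + P.B y (l v) • x := fun v hv => by
    rw [nil_apply, nil_apply, hu, rt_of_orth_left P y c ((B_fix hl hlx v).trans hv)]
    abel
  induction i with
  | zero => simpa using h0 v hv
  | succ i ih =>
    rw [nil_pow_succ, ih, map_add, map_smul, nil_apply u x, hu.fix hlx hx hxy, sub_self, smul_zero,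
      add_zero, h0 _ (B_nil hl hlx i v), ← nil_pow_succ]

theorem step_top {e : ℕ} (he : nil l ^ (e + 1) = 0) {v : V} (hv : P.B x v = 0) :
    (nil u ^ (e + 1)) v = P.B y ((nil l ^ e) v) • x := by
  have h1 : nil l ((nil l ^ e) v) = 0 := by rw [← nil_pow_succ, he]; rfl
  rw [nil_apply, sub_eq_zero] at h1
  rw [step_orth hu hl hlx hx hxy e hv, he, h1, LinearMap.zero_apply, zero_add]

theorem step_all (hH : P.IsHerm) {e : ℕ} (he : nil l ^ (e + 1) = 0) (v : V) :
    (nil u ^ (e + 2)) v = -(P.B x v * P.B y ((nil l ^ e) y)) • x := by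
  have h1 : nil u v = nil l v + (P.B y (l v) - c * P.B x v) • x - P.B x v • y := by
    rw [nil_apply, nil_apply, hu, rt_herm hH, B_fix hl hlx]
    abel
  have h2 : P.B y ((nil l ^ e) x) = 0 := by
    cases e with
    | zero => simpa using P.B_eq_zero_comm.1 hxy
    | succ e => rw [nil_pow_succ', nil_apply, hlx, sub_self, map_zero, map_zero]
  have h3 := B_nil hl hlx 0 v
  rw [zero_add, pow_one] at h3
  rw [nil_pow_succ', step_top hu hl hlx hx hxy he (by
    rw [h1, P.B_sub_right, P.B_add_right, P.B_smul_right, P.B_smul_right, h3, hx, hxy]; simp),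
    h1, map_sub, map_add, ← nil_pow_succ', he]
  simp [h2]

end step

section herm

variable (hH : P.IsHerm) [FiniteDimensional F V]
include hH

theorem exists_isRL (hl : l ∈ SUV P) (hx : P.B x x = 0) (hxy : P.B x y = 0)
    (hc : c + σ c = P.B y y) : ∃ u ∈ SUV P, IsRL P u l x y c := by
  obtain ⟨g, hg, e⟩ := exists_rt_SUV hH hx hxy hc
  exact ⟨g * l, mul_mem hg hl, fun v => by rw [LinearEquiv.mul_apply, e, rt_herm hH]⟩

theorem exists_swap (hP : P.Nondeg) (hodd : Odd (finrank F V)) (hu : IsRL P u l x y c)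
    (hl : P.IsIso l) {x' : V} (hlx : l x = x) (hlx' : l x' = x') (hx : P.B x x = 0)
    (hx' : P.B x' x' = 0) (hxy : P.B x y = 0) (hxy' : P.B x' y = 0) {β : F} (hβ : β ≠ 0)
    (hβ' : σ β = β) (h : P.B x x' = β) : ∃ u', Cj P u u' ∧ IsRL P u' l x' y c := by
  have h' : P.B x' x = β := by rw [← hH.conj, h, hβ']
  have hw : P.B (x - x') (x - x') = -2 * β := by
    simp only [P.B_sub_left, P.B_sub_right, hx, hx', h, h']; ring
  have i1 := hH.qrefl_isIso (x - x') β⁻¹ (by rw [hw, map_inv₀, hβ']; field_simp; ring)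
  have i2 : P.IsIso ((-1 : F) • P.qrefl (x - x') β⁻¹ : V →ₗ[F] V) :=
    (hH.isIso_iff _).2 fun a b => by simpa using i1.B_eq a b
  have e : ∀ v, i2.toEquiv hP v = -v - (β⁻¹ * P.B (x - x') v) • (x - x') := fun v => by
    rw [i2.toEquiv_apply, LinearMap.smul_apply, P.qrefl_apply]; module
  have hlw : l (x - x') = x - x' := by rw [map_sub, hlx, hlx']
  refine ⟨_, ⟨i2.toEquiv hP, ⟨i2.toEquiv_isIso hP, mem_SLV.2 ?_⟩, rfl⟩, fun v => ?_⟩
  · change LinearMap.det ((-1 : F) • P.qrefl (x - x') β⁻¹) = 1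
    rw [LinearMap.det_smul, P.det_qrefl, hw, hodd.neg_one_pow]
    field_simp; ring
  · rw [hu.conj (i2.toEquiv_isIso hP) (fun v => by
      rw [e, e, B_fix hl hlw, map_sub l, map_neg, map_smul l, hlw]) v, e, e]
    have e1 : -x - (β⁻¹ * P.B (x - x') x) • (x - x') = -x' := by
      rw [P.B_sub_left, hx, h']
      match_scalars <;> field_simp <;> ring
    rw [e1, P.B_sub_left, hxy, hxy']
    simp only [rt_def, map_neg, LinearMap.neg_apply, sub_self, mul_zero, zero_smul, sub_zero]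
    module

theorem exists_shift (hu : IsRL P u l x y c) (hl : P.IsIso l) (hlx : l x = x) (hx : P.B x x = 0)
    {y₀ : V} (hly : l y₀ = y₀) (hxy : P.B x y = 0) (hxy₀ : P.B x y₀ = 0) (hy : P.B y y₀ ≠ 0)
    {c₁ : F} (hc : c + σ c = c₁ + σ c₁) : ∃ u', Cj P u u' ∧ IsRL P u' l x y c₁ := by
  obtain ⟨m, hm⟩ := exists_sub_conj hH (d := c₁ - c) (by rw [map_sub]; linear_combination -hc)
  obtain ⟨a, ha⟩ : ∃ a, a = (σ m / P.B y y₀) • y₀ := ⟨_, rfl⟩
  have hla : l a = a := by rw [ha, map_smul, hly]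
  have hxa : P.B x a = 0 := by rw [ha, P.B_smul_right, hxy₀, mul_zero]
  have hay : P.B a y = m := by
    rw [← hH.conj, ha, P.B_smul_right, div_mul_cancel₀ _ hy, P.σσ]
  obtain ⟨d, hd⟩ := exists_param hH a
  obtain ⟨g, hg, e⟩ := exists_rt_SUV hH hx hxa hd
  refine ⟨_, ⟨g, hg, rfl⟩, fun v => ?_⟩
  rw [hu.conj hg.1 (fun v => by
    rw [e, e, B_fix hl hlx, B_fix hl hla, map_sub, map_add, map_smul, map_smul, hlx, hla]) v,
    e, e, hx, hxy, hay, P.B_eq_zero_comm.1 hxa]
  simp only [rt_herm hH, mul_zero, sub_zero, zero_smul, add_zero, P.B_add_left, P.B_smul_left]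
  rw [show c₁ = c + (m - σ m) by rw [hm]; ring]
  module

omit [FiniteDimensional F V]

/-- Directions of root maps with centre `x` lying in `X`. -/
def dirs (X : Subgroup (V ≃ₗ[F] V)) {x : V} (hx : P.B x x = 0) : AddSubgroup V where
  carrier := {a | P.B x a = 0 ∧ ∃ c, c + σ c = P.B a a ∧ Rt P X x a c}
  add_mem' := by
    rintro a b ⟨ha, c, hc, h1⟩ ⟨hb, d, hd, h2⟩
    refine ⟨by simp [ha, hb], _, ?_, rt_mul hH h1 h2 hx ha hb⟩
    simp only [map_add, LinearMap.add_apply, hH.conj]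
    linear_combination hc + hd
  zero_mem' := ⟨by simp, 0, by simp, by simpa using tv_iff_rt.1 (tv_zero (P := P) (X := X) x)⟩
  neg_mem' := by
    rintro a ⟨ha, c, hc, h1⟩
    refine ⟨by simp [ha], _, ?_, rt_inv hH h1 hx ha⟩
    simp only [map_neg, map_sub, LinearMap.neg_apply, hH.conj]
    linear_combination -hc

variable {X : Subgroup (V ≃ₗ[F] V)} (hx : P.B x x = 0)

theorem smul_self_mem (t : F) : t • x ∈ dirs hH X hx := by
  refine ⟨by simp [hx], σ t - t, by simp [hx, P.σσ], ?_⟩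
  have := (rt_shift hH (X := X) (x := x) (a := 0) (c := σ t - t) (μ := t)).2
    (by simpa using tv_iff_rt.1 (tv_zero (P := P) (X := X) x))
  simpa using this

theorem conj_mem_dirs (hX : X ≤ P.isom) {h : V ≃ₗ[F] V} (hh : h ∈ X) {t : F} (ht : h x = t • x)
    {a : V} (ha : a ∈ dirs hH X hx) : σ t • h a ∈ dirs hH X hx := by
  obtain ⟨ha, c, hc, h1⟩ := ha
  have h2 := h1.conj hh (hX hh)
  have h3 := (hX hh).B_eq x a
  rw [ht] at h2 h3
  rw [P.B_smul_left] at h3
  refine ⟨by rw [P.B_smul_right, h3, ha], _, ?_, (rt_smul hH).1 h2⟩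
  rw [P.B_smul_left, P.B_smul_right, (hX hh).B_eq, map_mul, map_mul, P.σσ]
  linear_combination (σ t * t) * hc

/-- The quotient of two maps with the same Levi part. -/
theorem sub_mem_dirs {u' : V ≃ₗ[F] V} {y' : V} {c' : F} (hu : IsRL P u l x y c)
    (hu' : IsRL P u' l x y' c') (h1 : u ∈ X) (h2 : u' ∈ X) (hy : P.B x y = 0) (hy' : P.B x y' = 0)
    (hc : c + σ c = P.B y y) (hc' : c' + σ c' = P.B y' y') : y' - y ∈ dirs hH X hx := by
  refine ⟨by simp [hy, hy'], c' - c + P.B y y - P.B y' y, ?_, u' * u⁻¹, mul_mem h2 (inv_mem h1),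
    fun v => ?_⟩
  · simp only [map_add, map_sub, LinearMap.sub_apply, hH.conj]
    linear_combination hc' - hc
  · obtain ⟨w, rfl⟩ := u.surjective v
    rw [LinearEquiv.mul_apply, inv_apply_apply, hu, hu', rt_rt P hx (by simp [hy, hy']) hy,
      hH.ε_eq, P.B_sub_left]
    congr 1 <;> [simp; ring]

variable [FiniteDimensional F V]

theorem suv_le_of_dirs (hP : P.Nondeg)
    (hbig : 4 ≤ finrank F V ∨ ∃ c : F, σ c = c ∧ c ≠ 0 ∧ c ≠ 1) (hX : X ≤ P.isom)
    (hS : ∀ a, P.B x a = 0 → a ∈ dirs hH X hx) (hy : P.B x y = 0) (hyy : P.B y y ≠ 0)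
    {g : V ≃ₗ[F] V} (hg : g ∈ X) (h : P.B x (g x) ≠ 0) : SUV P ≤ X := by
  obtain ⟨-, c, -, h1⟩ := hS y hy
  have h2 : TF P X x := tf_of_rt hH hx hy hy hyy h1 fun t =>
    let ⟨_, c, _, h⟩ := hS (t • y) (by simp [hy]); ⟨c, h⟩
  refine suv_le_of_tf hH hP hbig hX fun z hz => tf_of_allFull hH (allFull_of_move hP hX
    ((hH.sing_iff x).2 hx) (fun a ha => ?_) hg h) hz
  obtain ⟨-, c, hc, h3⟩ := hS a ha
  exact h2.inA hH hx ha hc h3

/-- A cyclic vector of `x^⊥` in the core gives all directions. -/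
theorem dirs_of_cyclic (hP : P.Nondeg) (hX : X ≤ P.isom) (hu : u ∈ X) (hux : u x = x)
    (hx0 : x ≠ 0) {e : ℕ} (he : finrank F V = e + 3) {w : V} (hw : w ∈ core F (dirs hH X hx))
    (h0 : (nil u ^ (e + 2)) w = 0) (h1 : (nil u ^ (e + 1)) w ≠ 0) (a : V) (ha : P.B x a = 0) :
    a ∈ dirs hH X hx := by
  have h2 := succ_le_finrank (nil u) h0 h1 hw fun a ha s => by
    have := conj_mem_dirs hH hx hX hu (t := 1) (by simpa using hux) (ha s)
    rw [nil_apply, smul_sub]
    exact sub_mem (by simpa using this) (ha s)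
  have h3 := P.finrank_perp hP (Submodule.span F {x})
  rw [finrank_span_singleton hx0] at h3
  have h4 : core F (dirs hH X hx) = P.perp (Submodule.span F {x}) :=
    Submodule.eq_of_le_of_finrank_le (fun a ha => P.mem_perp_span_singleton.2 (by
      simpa using (ha 1).1)) (by omega)
  simpa using (h4.ge (P.mem_perp_span_singleton.2 ha)) 1

end herm

end CfsgLib.RegUnip
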