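import Cfsg.Agent.Lib.RegUnip.SUTor

/-!
Generation of odd-dimensional special unitary groups by conjugate regular unipotent elements.
-/

set_option autoImplicit false

namespace CfsgLib.RegUnip

open CfsgLib.Forms CfsgLib.ClMax CfsgLib.RootMax CfsgLib.SUMax CfsgLib.Unitary Module

section mat

variable {F : Type*} [Field F] {ι : Type*} [Fintype ι] [DecidableEq ι] {H : Type*} [Group H]
  (toMat : H →* Matrix ι ι F)

theorem pow_eq_zero_iff_nil (h : H) (m : ℕ) :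
    (toMat h - 1) ^ m = 0 ↔ nil (matEquiv toMat h) ^ m = 0 := by
  rw [← map_eq_zero_iff _ Matrix.toLinAlgEquiv'.injective, map_pow, map_sub, map_one]
  rfl

theorem eq_top_of_le_map (hinj : Function.Injective toMat) {K : Subgroup ((ι → F) ≃ₗ[F] (ι → F))}
    (h1 : ∀ h, matEquiv toMat h ∈ K) {Y : Subgroup H} (h : K ≤ Y.map (matEquiv toMat)) : Y = ⊤ :=
  eq_top_iff.2 fun A _ => (Subgroup.mem_map_iff_mem (matEquiv_injective _ hinj)).1 (h (h1 A))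

end mat

section abstract

variable {F : Type*} [Field F] {σ : F →+* F} {V : Type*} [AddCommGroup V] [Module F V]

/-- A unipotent element regular on the complement of a hyperbolic plane. -/
structure Dat (P : PQ σ V) (l : V ≃ₗ[F] V) (x y z : V) (e : ℕ) : Prop where
  mem : l ∈ SUV P
  fr : Frame P x y z 1
  lx : l x = x
  lz : l z = z
  nil0 : nil l ^ (e + 1) = 0
  nil1 : P.B y ((nil l ^ e) y) ≠ 0
  dim : finrank F V = e + 3

variable {P : PQ σ V} (hH : P.IsHerm) [FiniteDimensional F V] (hP : P.Nondeg)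
include hH hP

theorem exists_dat {k : ℕ} (hk : finrank F V = 2 * k + 3) : ∃ l x y z, Dat P l x y z (2 * k) := by
  obtain ⟨b, hb⟩ := hH.exists_orthonormal_basis hP
  obtain ⟨θ, hθ⟩ := hH.exists_trace_one
  have key : ∀ j, j ≤ k → ∃ l ∈ SUV P, ∃ x y z, Frame P x y z 1 ∧ l x = x ∧ l z = z ∧
      nil l ^ (2 * j + 1) = 0 ∧ P.B y ((nil l ^ (2 * j)) y) ≠ 0 ∧
      ∀ i : Fin (finrank F V), 2 * j + 3 ≤ i →
        l (b i) = b i ∧ P.B (b i) y = 0 ∧ P.B (b i) x = 0 ∧ P.B (b i) z = 0 := by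
    have ext : ∀ j, j ≤ k → ∀ l ∈ SUV P, ∀ y, P.B y y = 1 → nil l ^ (2 * j + 1) = 0 →
        P.B y ((nil l ^ (2 * j)) y) ≠ 0 →
        (∀ i : Fin (finrank F V), 2 * j + 1 ≤ i → l (b i) = b i ∧ P.B (b i) y = 0) →
        ∃ l ∈ SUV P, ∃ x y z, Frame P x y z 1 ∧ l x = x ∧ l z = z ∧
        nil l ^ (2 * j + 1) = 0 ∧ P.B y ((nil l ^ (2 * j)) y) ≠ 0 ∧
        ∀ i : Fin (finrank F V), 2 * j + 3 ≤ i →
          l (b i) = b i ∧ P.B (b i) y = 0 ∧ P.B (b i) x = 0 ∧ P.B (b i) z = 0 := by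
      intro j hj l hl y hy h0 h1 h2
      let i₁ : Fin (finrank F V) := ⟨2 * j + 1, by omega⟩
      let i₂ : Fin (finrank F V) := ⟨2 * j + 2, by omega⟩
      obtain ⟨x, z, hx, hz, xx, zz, xz, -⟩ := hH.exists_hyperbolic_pair (u := b i₁) (w := b i₂)
        (by simp [hb]) (by simp [hb]) (by simp [hb, i₁, i₂])
      have h3 := h2 i₁ le_rfl
      have h4 := h2 i₂ (Nat.le_succ _)
      have h5 : ∀ v ∈ Submodule.span F {b i₁, b i₂}, l v = v ∧ P.B v y = 0 ∧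
          ∀ i : Fin (finrank F V), 2 * j + 3 ≤ i → P.B (b i) v = 0 := fun v hv => by
        obtain ⟨s, t, rfl⟩ := Submodule.mem_span_pair.1 hv
        refine ⟨by simp [h3, h4], by simp [h3, h4], fun i hi => ?_⟩
        have e1 : i ≠ i₁ := by rintro rfl; simp [i₁] at hi
        have e2 : i ≠ i₂ := by rintro rfl; simp [i₂] at hi
        simp [hb, e1, e2]
      exact ⟨l, hl, x, y, z, ⟨xx, zz, hy, (h5 x hx).2.1, (h5 z hz).2.1, xz, by
        rw [← hH.conj, xz, map_one]⟩, (h5 x hx).1, (h5 z hz).1, h0, h1, fun i hi =>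
        ⟨(h2 i (by omega)).1, (h2 i (by omega)).2, (h5 x hx).2.2 i hi, (h5 z hz).2.2 i hi⟩⟩
    intro j hj
    induction j with
    | zero =>
      refine ext 0 hj 1 (one_mem _) (b ⟨0, by omega⟩) (by simp [hb]) (by ext; simp [nil_apply])
        (by simp [hb]) fun i hi => ⟨rfl, ?_⟩
      have : i ≠ ⟨0, by omega⟩ := fun h => by simp [Fin.ext_iff.1 h] at hi
      simp [hb, this]
    | succ j ih =>
      obtain ⟨l, hl, x, y, z, fr, lx, lz, h0, h1, h2⟩ := ih (by omega)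
      obtain ⟨u, hu, e⟩ := exists_isRL hH hl fr.xx fr.xy (hθ.trans fr.yy.symm)
      have h3 := step_all e hl.1 lx fr.xx fr.xy hH h0
      refine ext _ hj u hu (z + θ • x) ?_ ?_ ?_ fun i hi => ?_
      · simp only [P.B_add_left, P.B_add_right, P.B_smul_left, P.B_smul_right, fr.xx, fr.zz, fr.xz,
          fr.zx]
        linear_combination hθ
      · ext v
        rw [show 2 * (j + 1) + 1 = 2 * j + 2 + 1 by ring, nil_pow_succ, h3, map_smul, nil_apply,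
          e.fix lx fr.xx fr.xy]
        simp
      · rw [show 2 * (j + 1) = 2 * j + 2 by ring, h3]
        simpa [fr.xx, fr.xz, fr.zx] using h1
      · obtain ⟨a1, a2, a3, a4⟩ := h2 i (by omega)
        exact ⟨by rw [e, a1, rt_of_orth P _ (P.B_eq_zero_comm.1 a3) (P.B_eq_zero_comm.1 a2)],
          by simp [a3, a4]⟩
  obtain ⟨l, hl, x, y, z, fr, lx, lz, h0, h1, -⟩ := key k le_rfl
  exact ⟨l, x, y, z, hl, fr, lx, lz, h0, h1, hk⟩

variable {l : V ≃ₗ[F] V} {x y z : V} {e : ℕ} (D : Dat P l x y z e)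
include D

omit hH hP [FiniteDimensional F V] in
theorem Dat.frame {β : F} (hβ : σ β = β) : Frame P x y (β • z) β :=
  ⟨D.fr.xx, by simp [D.fr.zz], D.fr.yy, D.fr.xy, by simp [D.fr.zy], by simp [D.fr.xz],
    by rw [P.B_smul_left, D.fr.zx, hβ, mul_one]⟩

omit hP [FiniteDimensional F V] in
theorem Dat.reg {u : V ≃ₗ[F] V} {c : F} (hu : IsRL P u l x y c) :
    nil u ^ (e + 3) = 0 ∧ nil u ^ (e + 2) ≠ 0 := by
  have h3 := step_all hu D.mem.1 D.lx D.fr.xx D.fr.xy hH D.nil0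
  refine ⟨LinearMap.ext fun v => ?_, fun h => ?_⟩
  · rw [nil_pow_succ, h3, map_smul, nil_apply, hu.fix D.lx D.fr.xx D.fr.xy]
    simp
  · have := congrArg (P.B z) (h3 z)
    simp [h, D.fr.xz, D.fr.zx, D.nil1] at this

/-- The first and the third generator. -/
theorem Dat.exists_pair (hodd : Odd (finrank F V)) {β c c' : F} (hβ : σ β = β) (hβ0 : β ≠ 0)
    (hc : c + σ c = 1) (hc' : c' + σ c' = 1) : ∃ u ∈ SUV P, ∃ u', IsRL P u l x y c ∧ Cj P u u' ∧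
      (∀ v, (u * u'⁻¹) v = rt P x y c (rt P (β • z) y c' v)) ∧ P.B x (u' x) ≠ 0 := by
  have fr := D.frame hβ
  obtain ⟨u, hu, e1⟩ := exists_isRL hH D.mem fr.xx fr.xy (hc.trans fr.yy.symm)
  have h0 : nil l ((nil l ^ e) y) = 0 := by rw [← nil_pow_succ, D.nil0]; rfl
  obtain ⟨u₁, c1, e2⟩ := exists_shift hH e1 D.mem.1 D.lx fr.xx (sub_eq_zero.1 h0) fr.xy
    (by cases e with
      | zero => exact fr.xy
      | succ e => exact B_nil D.mem.1 D.lx e y) D.nil1 (c₁ := σ c')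
    (by rw [P.σσ]; linear_combination hc - hc')
  obtain ⟨u₂, c2, e3⟩ := exists_swap hH hP hodd e2 D.mem.1 (x' := -(β • z)) D.lx
    (by simp [D.lz]) fr.xx (by simp [D.fr.zz]) fr.xy (by simp [D.fr.zy]) (neg_ne_zero.2 hβ0)
    (by rw [map_neg, hβ]) (by rw [map_neg, fr.xz])
  refine ⟨u, hu, u₂, e1, c1.trans c2, fun v => ?_, ?_⟩
  · obtain ⟨w, rfl⟩ := u₂.surjective v
    have : ∀ v, rt P (-(β • z)) y (σ c') v = rt P (β • z) (-y) (σ c') v := fun v => by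
      simp only [rt_herm hH, map_neg, LinearMap.neg_apply]; module
    rw [LinearEquiv.mul_apply, inv_apply_apply, e1, e3, this,
      rt_rt P fr.zz fr.zy (by rw [map_neg, fr.zy, neg_zero]), hc', hH.ε_eq, map_neg, fr.yy]
    simp [rt_def]
  · have : σ c' ≠ 0 := by
      rw [map_ne_zero]; rintro rfl; simp at hc'
    rw [e3, D.lx, rt_herm hH]
    simp only [P.B_add_right, P.B_sub_right, P.B_smul_right, map_neg, LinearMap.neg_apply, fr.xx,
      fr.zx, fr.xy, P.B_eq_zero_comm.1 fr.xy]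
    simp [this, hβ0, D.fr.xz]

variable {X : Subgroup (V ≃ₗ[F] V)}

theorem Dat.finish (hbig : 4 ≤ finrank F V ∨ ∃ c : F, σ c = c ∧ c ≠ 0 ∧ c ≠ 1) (hX : X ≤ P.isom)
    {u u' : V ≃ₗ[F] V} {c : F} (e1 : IsRL P u l x y c) (hu : u ∈ X) (hu' : u' ∈ X)
    (h : P.B x (u' x) ≠ 0) {w : V} (hw : w ∈ core F (dirs hH X D.fr.xx))
    (h1 : P.B y ((nil l ^ e) w) ≠ 0) : SUV P ≤ X := by
  have hxw : P.B x w = 0 := by simpa using (hw 1).1
  have hx0 : x ≠ 0 := P.ne_zero_of_B_ne (b := z) (by simp [D.fr.xz])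
  refine suv_le_of_dirs hH D.fr.xx hP hbig hX (dirs_of_cyclic hH D.fr.xx hP hX hu
    (e1.fix D.lx D.fr.xx D.fr.xy) hx0 D.dim hw ?_ ?_) D.fr.xy (by simp [D.fr.yy]) hu' h
  · simp [step_all e1 D.mem.1 D.lx D.fr.xx D.fr.xy hH D.nil0, hxw]
  · simp [step_top e1 D.mem.1 D.lx D.fr.xx D.fr.xy D.nil0 hxw, h1, hx0]

/-- A second generator differing from the first by a real dilation. -/
theorem Dat.exists_dil (hodd : Odd (finrank F V)) {u : V ≃ₗ[F] V} {c s : F}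
    (e1 : IsRL P u l x y c) (hc : c + σ c = 1) (hs : σ s = s) (hs0 : s ≠ 0) :
    ∃ u', Cj P u u' ∧ ∀ X, u ∈ X → u' ∈ X → (s - 1) • y ∈ dirs hH X D.fr.xx := by
  have fr := D.fr
  obtain ⟨u₁, c1, e2⟩ := exists_swap hH hP hodd e1 D.mem.1 D.lx D.lz fr.xx fr.zz fr.xy fr.zy
    one_ne_zero (map_one σ) fr.xz
  obtain ⟨u₂, c2, e3⟩ := exists_swap hH hP hodd e2 D.mem.1 (x' := s • x) D.lz (by simp [D.lx])
    fr.zz (by simp [fr.xx]) fr.zy (by simp [fr.xy]) hs0 hs (by simp [fr.zx])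
  have e4 : IsRL P u₂ l x (s • y) (s * s * c) := fun v => by
    rw [e3, rt_herm hH, rt_herm hH, P.B_smul_left, P.B_smul_left, hs]
    module
  refine ⟨u₂, c1.trans c2, fun X h1 h2 => ?_⟩
  rw [sub_smul, one_smul]
  refine sub_mem_dirs hH fr.xx e1 e4 h1 h2 fr.xy (by simp [fr.xy]) (hc.trans fr.yy.symm) ?_
  rw [P.B_smul_left, P.B_smul_right, map_mul, map_mul, hs, fr.yy]
  linear_combination (s * s) * hc

omit hP [FiniteDimensional F V] in
/-- The splitting argument when the cube of the multiplier has smaller order. -/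
theorem Dat.split (he : 1 ≤ e) (hX : X ≤ P.isom) {u h : V ≃ₗ[F] V} {c μ κ : F}
    (e1 : IsRL P u l x y c) (hc : c + σ c = 1) (hu : u ∈ X) (hu' : l * u * l⁻¹ ∈ X) (hh : h ∈ X)
    (hμ : σ μ⁻¹ = μ) (h1 : h x = μ⁻¹ • x) (h2 : h y = μ ^ 2 • y + κ • x)
    (h3 : ∀ w, P.B x w = 0 → P.B y w = 0 → P.B z w = 0 → h w = w)
    (hgen : ∀ M : Subring F, μ ∈ M → M = ⊤) {j : ℕ} (hj : (μ ^ 3) ^ j = 1) (hj' : μ ^ j ≠ 1) :
    ∃ w ∈ core F (dirs hH X D.fr.xx), P.B y ((nil l ^ e) w) ≠ 0 := by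
  have fr := D.fr
  have hT : ∀ a ∈ dirs hH X fr.xx, μ • h a ∈ dirs hH X fr.xx := fun a ha =>
    hμ ▸ conj_mem_dirs hH fr.xx hX hh h1 ha
  have hN : ∀ i, (nil l ^ (i + 1)) y ∈ dirs hH X fr.xx := by
    intro i
    induction i with
    | zero =>
      have e2 := e1.conj D.mem.1 fun _ => rfl
      rw [D.lx] at e2
      exact sub_mem_dirs hH fr.xx (y' := l y) e1 e2 hu hu' fr.xy (by rw [B_fix D.mem.1 D.lx, fr.xy])
        (hc.trans fr.yy.symm) (by rw [D.mem.1.B_eq, hc, fr.yy])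
    | succ i ih =>
      have := conj_mem_dirs hH fr.xx hX hu (t := 1) (by simpa using e1.fix D.lx fr.xx fr.xy) ih
      rw [map_one, one_smul, e1, rt_of_orth_left P y c (by
        rw [B_fix D.mem.1 D.lx, B_nil D.mem.1 D.lx])] at this
      rw [nil_pow_succ, nil_apply]
      exact sub_mem ((add_mem_cancel_right (smul_self_mem hH fr.xx _)).1 this) ih
  obtain ⟨e, rfl⟩ := Nat.exists_eq_add_of_le' he
  obtain ⟨t, ht⟩ : ∃ t, t = P.B y ((nil l ^ (e + 1)) y) := ⟨_, rfl⟩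
  obtain ⟨w, hw⟩ : ∃ w, w = (nil l ^ (e + 1)) y - t • y := ⟨_, rfl⟩
  have ht0 : t ≠ 0 := ht ▸ D.nil1
  have hw1 : h w = w := h3 w (by simp [hw, B_nil D.mem.1 D.lx, fr.xy]) (by simp [hw, ← ht, fr.yy])
    (by simp [hw, B_nil D.mem.1 D.lz, fr.zy])
  have h4 : ∀ i : ℕ, ((μ ^ 3) ^ i * t) • y + μ ^ i • w ∈ dirs hH X fr.xx := by
    intro i
    induction i with
    | zero => simpa [hw] using hN e
    | succ i ih =>
      have := sub_mem (hT _ ih) (smul_self_mem hH fr.xx (μ * (μ ^ 3) ^ i * t * κ))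
      rw [map_add, map_smul, map_smul, h2, hw1] at this
      convert this using 1
      module
  refine ⟨w, smul_mem_of_gen _ (fun s hs => ?_) hgen (sub_ne_zero.2 hj') ?_, ?_⟩
  · simpa [hw1, smul_smul] using hT _ hs
  · convert sub_mem (h4 j) (h4 0) using 1
    rw [hj]; module
  · rw [hw, map_sub, map_smul, ← End.mul_apply, ← pow_add,
      show e + 1 + (e + 1) = e + (e + 1 + 1) by ring, pow_add, D.nil0]
    simp [← ht, ht0]

end abstract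

theorem arith_five {F : Type*} [Field F] {μ : F} (h5 : (5 : F) = 0) (hμ : orderOf μ = 5 + 1) :
    μ ^ 2 - μ + 1 = 0 ∧ 2 + 2 * μ + (2 + 2 * μ ^ 5) = 1 ∧ (2 : F) ≠ 0 ∧ μ + μ ^ 5 = 1 ∧
      μ = 3 + 3 * ((4 + 4 * μ ^ 5) * (1 + 4 * μ)) := by
  have h0 : μ ^ (5 + 1) = 1 := hμ ▸ pow_orderOf_eq_one μ
  have b1 := pow_ne_one_of_lt_orderOf two_ne_zero (by omega : 2 < orderOf μ)
  have b2 := pow_ne_one_of_lt_orderOf three_ne_zero (by omega : 3 < orderOf μ)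
  have b3 : μ ^ 2 - μ + 1 = 0 := by
    refine mul_left_cancel₀ (mul_ne_zero (sub_ne_zero.2 b1) (sub_ne_zero.2 b2)) ?_
    linear_combination (μ - 1) * h0
  clear b1 b2 hμ h0
  refine ⟨b3, ?_, fun h => one_ne_zero (by linear_combination h5 - 2 * h : (1 : F) = 0), ?_, ?_⟩ <;>
    grind

theorem arith_eight {F : Type*} [Field F] {μ : F} (h2 : (2 : F) = 0) (hμ : orderOf μ = 8 + 1) :
    μ ^ 6 + μ ^ 3 + 1 = 0 ∧
      μ + μ ^ 2 + μ ^ 3 + μ ^ 5 + (μ ^ 8 + (μ ^ 8) ^ 2 + (μ ^ 8) ^ 3 + (μ ^ 8) ^ 5) = 1 ∧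
      (μ ^ 8) ^ 4 + (μ ^ 8) ^ 5 = μ ^ 4 + μ ^ 5 ∧ μ ^ 4 + μ ^ 5 ≠ 0 ∧
      μ + μ ^ 2 + μ ^ 3 + μ ^ 4 + (μ ^ 8 + (μ ^ 8) ^ 2 + (μ ^ 8) ^ 3 + (μ ^ 8) ^ 4) = 1 ∧
      (1 + (μ ^ 8) ^ 2 + (μ ^ 8) ^ 4) * μ ^ 5 = μ + μ ^ 3 + μ ^ 5 ∧
      μ = μ + μ ^ 3 + μ ^ 5 + (μ + μ ^ 3 + μ ^ 5) ^ 4 + (μ + μ ^ 3 + μ ^ 5) ^ 5 := by
  have h0 : μ ^ (8 + 1) = 1 := hμ ▸ pow_orderOf_eq_one μ
  have b2 := pow_ne_one_of_lt_orderOf three_ne_zero (by omega : 3 < orderOf μ)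
  have b3 : μ ^ 6 + μ ^ 3 + 1 = 0 := by
    refine mul_left_cancel₀ (sub_ne_zero.2 b2) ?_
    linear_combination h0
  clear b2 hμ h0
  refine ⟨b3, ?_, ?_, ?_, ?_, ?_, ?_⟩ <;> grind

section finite

variable {F : Type*} [Field F] [Fintype F] {q : ℕ} (hF : Fintype.card F = q ^ 2) {V : Type*}
  [AddCommGroup V] [Module F V] {P : PQ (conj hF) V} (hH : P.IsHerm) [FiniteDimensional F V]
  (hP : P.Nondeg) {l : V ≃ₗ[F] V} {x y z : V} {e : ℕ} (D : Dat P l x y z e)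
  (hodd : Odd (finrank F V))
include hH hP D hodd

/-- The generic pair of generators with its torus element. -/
theorem Dat.exists_gen {μ : F} (hμ : orderOf μ = q + 1) : ∃ u ∈ SUV P, ∃ u' c,
    IsRL P u l x y c ∧ c + conj hF c = 1 ∧ Cj P u u' ∧ P.B x (u' x) ≠ 0 ∧ conj hF μ⁻¹ = μ ∧
    ((u * u'⁻¹) ^ q) x = μ⁻¹ • x ∧ (∃ κ : F, ((u * u'⁻¹) ^ q) y = μ ^ 2 • y + κ • x) ∧
    ∀ w, P.B x w = 0 → P.B y w = 0 → P.B z w = 0 → ((u * u'⁻¹) ^ q) w = w := by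
  have hq := two_le_q hF
  have h0 : μ ^ (q + 1) = 1 := hμ ▸ pow_orderOf_eq_one μ
  have h3 : μ ≠ 0 := by rintro rfl; simp at h0
  have h4 : (μ - 1) * (μ + 1) ≠ 0 := fun h =>
    pow_ne_one_of_lt_orderOf two_ne_zero (by omega : 2 < orderOf μ) (by linear_combination h)
  have h1 := left_ne_zero_of_mul h4
  have h2 := right_ne_zero_of_mul h4
  have h1' : 1 - μ ≠ 0 := fun h => h1 (by linear_combination -h)
  have h2' : 1 + μ ≠ 0 := by rwa [add_comm]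
  have h5 : conj hF μ = μ⁻¹ := eq_inv_of_mul_eq_one_left (by rw [conj_apply, ← pow_succ, h0])
  have hc : -(2 * μ ^ 2 + 2 * μ + 1) / ((μ - 1) * (μ + 1) ^ 3) +
      conj hF (-(2 * μ ^ 2 + 2 * μ + 1) / ((μ - 1) * (μ + 1) ^ 3)) = 1 := by
    simp only [map_div₀, map_neg, map_add, map_mul, map_sub, map_pow, map_one, map_ofNat, h5]
    field_simp; ring
  obtain ⟨u, hu, u', e1, c1, e2, e3⟩ := D.exists_pair hH hP hodd
    (β := -((μ - 1) * (μ + 1)) ^ 2 / μ ^ 2) (c' := μ ^ 2 / ((μ - 1) * (μ + 1))) (by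
      simp only [map_div₀, map_neg, map_add, map_mul, map_sub, map_pow, map_one, h5]
      field_simp; ring) (by simp [h1, h2, h3]) hc (by
      simp only [map_div₀, map_add, map_mul, map_sub, map_pow, map_one, h5]
      field_simp; ring)
  obtain ⟨a1, a2, a3⟩ := tor_gen hH (natCast_q hF) h0 h1 h2 (D.frame (by
      simp only [map_div₀, map_neg, map_add, map_mul, map_sub, map_pow, map_one, h5]
      field_simp; ring)) e2
  exact ⟨u, hu, u', _, e1, hc, c1, e3, by rw [map_inv₀, h5, inv_inv], a1, a2,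
    fun w b1 b2 b3 => a3 w b1 b2 (by simp [b3])⟩

theorem Dat.three (he : 1 ≤ e) : ∃ u ∈ SUV P, ∃ u₂ u₃ c, IsRL P u l x y c ∧ Cj P u u₂ ∧
    Cj P u u₃ ∧ ∀ X ≤ P.isom, u ∈ X → u₂ ∈ X → u₃ ∈ X → SUV P ≤ X := by
  obtain ⟨μ, hμ⟩ := exists_orderOf_succ hF
  obtain ⟨u, hu, u', c, e1, hc, c1, e2, h1, h2, ⟨κ, h3⟩, h4⟩ := D.exists_gen hF hH hP hodd hμ
  have hd := D.dim
  by_cases hq : q = 2 ∨ q = 5 ∨ q = 8
  · refine ⟨u, hu, _, u', c, e1, ⟨l, D.mem, rfl⟩, c1, fun X hX a1 a2 a3 => ?_⟩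
    obtain ⟨w, hw, hw'⟩ := D.split hH he hX e1 hc a1 a2 (pow_mem (mul_mem a1 (inv_mem a3)) q)
      h1 h2 h3 h4 (fun M => subring_eq_top_of_order hF hμ) (j := (q + 1) / 3)
      (by rw [← pow_mul, show 3 * ((q + 1) / 3) = q + 1 by omega, ← hμ, pow_orderOf_eq_one])
      (pow_ne_one_of_lt_orderOf (by omega) (by omega))
    exact D.finish hH hP (Or.inl (by omega)) hX e1 a1 a3 e2 hw hw'
  · push Not at hq
    obtain ⟨s, hs, hs0, hs1⟩ := exists_fixed_ne_zero_one hF hq.1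
    obtain ⟨u₂, c2, h5⟩ := D.exists_dil hH hP hodd e1 hc hs hs0
    refine ⟨u, hu, u₂, u', c, e1, c2, c1, fun X hX a1 a2 a3 => ?_⟩
    refine D.finish hH hP (Or.inl (by omega)) hX e1 a1 a3 e2 (mem_core_of_tor hH _ hX
      (pow_mem (mul_mem a1 (inv_mem a3)) q) h2 h3 (fun M hM => ?_) (sub_ne_zero.2 hs1)
      (h5 X a1 a2)) D.nil1
    exact subring_eq_top_of_cube hF hμ hq.1 hq.2.1 hq.2.2 (by rwa [h1, ← pow_succ'] at hM)

theorem Dat.two (he : e = 0) (hq : q ≠ 2) : ∃ u ∈ SUV P, ∃ u' c, IsRL P u l x y c ∧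
    Cj P u u' ∧ ∀ X ≤ P.isom, u ∈ X → u' ∈ X → SUV P ≤ X := by
  subst he
  obtain ⟨μ, hμ⟩ := exists_orderOf_succ hF
  have hl : ∀ v, l v = v := fun v => by
    simpa [nil_apply, sub_eq_zero] using LinearMap.congr_fun D.nil0 v
  have hbig := Or.inr (a := 4 ≤ finrank F V) (exists_fixed_ne_zero_one hF hq)
  have hy : ∀ {u c X}, IsRL P u l x y c → c + conj hF c = 1 → u ∈ X →
      (1 : F) • y ∈ dirs hH X D.fr.xx := fun e1 hc hu => by
    rw [one_smul]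
    exact ⟨D.fr.xy, _, hc.trans D.fr.yy.symm, _, hu, fun v => by rw [e1, hl]⟩
  have hv : ∀ {u u' : V ≃ₗ[F] V} {c c' β : F} {X}, IsRL P u l x y c →
      (∀ v, (u * u'⁻¹) v = rt P x y c (rt P (β • z) y c' v)) → u ∈ X → u' ∈ X →
      Rt P X x y c ∧ Rt P X (β • z) y c' := fun e1 e2 a1 a2 =>
    ⟨⟨_, a1, fun v => by rw [e1, hl]⟩, _, inv_mem a2, fun v => LinearEquiv.injective _ (by
      rw [← LinearEquiv.mul_apply, e2, e1, hl])⟩
  have hp := natCast_q hF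
  by_cases h5 : q = 5
  · subst h5
    have b4 : (5 : F) = 0 := by exact_mod_cast hp
    have b5 : conj hF μ = μ ^ 5 := rfl
    obtain ⟨b3, f1, f2, f3, f4⟩ := arith_five b4 hμ
    have hc : 2 + 2 * μ + conj hF (2 + 2 * μ) = 1 := by
      simpa only [map_add, map_mul, map_ofNat, b5] using f1
    obtain ⟨u, hu, u', e1, c1, e2, e3⟩ := D.exists_pair hH hP hodd (β := 2) (c' := μ)
      (map_ofNat _ 2) f2 hc f3
    refine ⟨u, hu, u', _, e1, c1, fun X hX a1 a2 => ?_⟩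
    obtain ⟨h, hh, t1, t2⟩ := tor_five hH b4 b3 (D.frame (map_ofNat _ 2)) (hv e1 e2 a1 a2).1
      (hv e1 e2 a1 a2).2
    refine D.finish hH hP hbig hX e1 a1 a2 e3 (mem_core_of_tor hH _ hX hh t1 t2 (fun M hM => ?_)
      one_ne_zero (hy e1 hc a1)) D.nil1
    simp only [map_add, map_mul, map_ofNat, b5] at hM
    exact subring_eq_top_of_order hF hμ
      (f4 ▸ add_mem (ofNat_mem M 3) (mul_mem (ofNat_mem M 3) hM))
  by_cases h8 : q = 8
  · subst h8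
    have b4 : (2 : F) = 0 := pow_eq_zero_iff three_ne_zero |>.1 (by norm_num; exact_mod_cast hp)
    have b5 : conj hF μ = μ ^ 8 := rfl
    obtain ⟨b3, f1, f2, f3, f4, f5, f6⟩ := arith_eight b4 hμ
    have hc : μ + μ ^ 2 + μ ^ 3 + μ ^ 5 + conj hF (μ + μ ^ 2 + μ ^ 3 + μ ^ 5) = 1 := by
      simpa only [map_add, map_pow, b5] using f1
    have hb : conj hF (μ ^ 4 + μ ^ 5) = μ ^ 4 + μ ^ 5 := by
      simpa only [map_add, map_pow, b5] using f2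
    obtain ⟨u, hu, u', e1, c1, e2, e3⟩ := D.exists_pair hH hP hodd
      (c' := μ + μ ^ 2 + μ ^ 3 + μ ^ 4) hb f3 hc (by simpa only [map_add, map_pow, b5] using f4)
    refine ⟨u, hu, u', _, e1, c1, fun X hX a1 a2 => ?_⟩
    obtain ⟨h, hh, t1, t2⟩ := tor_eight hH b4 b3 (D.frame hb) (hv e1 e2 a1 a2).1
      (hv e1 e2 a1 a2).2
    refine D.finish hH hP hbig hX e1 a1 a2 e3 (mem_core_of_tor hH _ hX hh t1 t2 (fun M hM => ?_)
      one_ne_zero (hy e1 hc a1)) D.nil1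
    simp only [map_add, map_pow, map_one, b5, f5] at hM
    exact subring_eq_top_of_order hF hμ
      (f6 ▸ add_mem (add_mem hM (pow_mem hM 4)) (pow_mem hM 5))
  obtain ⟨u, hu, u', c, e1, hc, c1, e2, h1, h2, ⟨κ, h3⟩, -⟩ := D.exists_gen hF hH hP hodd hμ
  refine ⟨u, hu, u', c, e1, c1, fun X hX a1 a3 => ?_⟩
  refine D.finish hH hP hbig hX e1 a1 a3 e2 (mem_core_of_tor hH _ hX
    (pow_mem (mul_mem a1 (inv_mem a3)) q) h2 h3 (fun M hM => ?_) one_ne_zero (hy e1 hc a1)) D.nil1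
  exact subring_eq_top_of_cube hF hμ hq h5 h8 (by rwa [h1, ← pow_succ'] at hM)

end finite

section matrices

variable {F : Type*} [Field F] [Fintype F] {q : ℕ} (hF : Fintype.card F = q ^ 2) {n : ℕ}

theorem exists_su_lift {g : (Fin n → F) ≃ₗ[F] (Fin n → F)} (hg : g ∈ SUV (uPQ hF n)) :
    ∃ A, matEquiv (suMat n F q) A = g :=
  let ⟨A, hA⟩ := exists_su_of_equiv hF n g hg.1 (mem_SLV.1 hg.2); ⟨A, LinearEquiv.ext hA⟩

theorem su_eq_top {Y : Subgroup (Cfsg.SU n F q)}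
    (h : Y.map (matEquiv (suMat n F q)) ≤ (uPQ hF n).isom →
      SUV (uPQ hF n) ≤ Y.map (matEquiv (suMat n F q))) : Y = ⊤ :=
  eq_top_of_le_map _ (suMat_injective n) (K := SUV (uPQ hF n))
    (fun A => ⟨su_isIso hF n A, mem_SLV.2 (su_det n A)⟩)
    (h (by rintro _ ⟨A, -, rfl⟩; exact su_isIso hF n A))

include hF

theorem su_two (hq : q ≠ 2) : ∃ u g : Cfsg.SU 3 F q, (IsNilpotent (suMat 3 F q u - 1) ∧
    (suMat 3 F q u - 1) ^ (3 - 1) ≠ 0) ∧ Subgroup.closure {u, g * u * g⁻¹} = ⊤ := by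
  have hH := uPQ_isHerm hF 3
  have hP := uPQ_nondeg hF 3
  obtain ⟨l, x, y, z, D⟩ := exists_dat hH hP (k := 0) (by simp)
  obtain ⟨u, hu, _, c, e1, ⟨g, hg, rfl⟩, h⟩ := D.two hF hH hP (by simp; decide) rfl hq
  obtain ⟨u, rfl⟩ := exists_su_lift hF hu
  obtain ⟨g, rfl⟩ := exists_su_lift hF hg
  have := D.reg hH e1
  rw [Ne, ← pow_eq_zero_iff_nil, ← pow_eq_zero_iff_nil] at this
  refine ⟨u, g, ⟨⟨_, this.1⟩, this.2⟩, su_eq_top hF fun hX => h _ hX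
    ⟨u, Subgroup.subset_closure (by simp), rfl⟩
    ⟨g * u * g⁻¹, Subgroup.subset_closure (by simp), by simp⟩⟩

theorem su_three (hn : 5 ≤ n) (hodd : Odd n) : ∃ u g h : Cfsg.SU n F q,
    (IsNilpotent (suMat n F q u - 1) ∧ (suMat n F q u - 1) ^ (n - 1) ≠ 0) ∧
    Subgroup.closure {u, g * u * g⁻¹, h * u * h⁻¹} = ⊤ := by
  have hH := uPQ_isHerm hF n
  have hP := uPQ_nondeg hF n
  obtain ⟨k, rfl⟩ : ∃ k, n = 2 * k + 3 := by obtain ⟨k, rfl⟩ := hodd; exact ⟨k - 1, by omega⟩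
  obtain ⟨l, x, y, z, D⟩ := exists_dat hH hP (k := k) (by simp)
  obtain ⟨u, hu, _, _, c, e1, ⟨g, hg, rfl⟩, ⟨g', hg', rfl⟩, h⟩ :=
    D.three hF hH hP (by simpa using hodd) (by omega)
  obtain ⟨u, rfl⟩ := exists_su_lift hF hu
  obtain ⟨g, rfl⟩ := exists_su_lift hF hg
  obtain ⟨g', rfl⟩ := exists_su_lift hF hg'
  have := D.reg hH e1
  rw [Ne, ← pow_eq_zero_iff_nil, ← pow_eq_zero_iff_nil] at this
  refine ⟨u, g, g', ⟨⟨_, this.1⟩, this.2⟩, su_eq_top hF fun hX => h _ hX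
    ⟨u, Subgroup.subset_closure (by simp), rfl⟩
    ⟨g * u * g⁻¹, Subgroup.subset_closure (by simp), by simp⟩
    ⟨g' * u * g'⁻¹, Subgroup.subset_closure (by simp), by simp⟩⟩

end matrices

end CfsgLib.RegUnip
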