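import Cfsg.Agent.Lib.RegUnip.SUCore

/-!
Torus elements in the group generated by two opposite root maps of a unitary group.
-/

set_option autoImplicit false

namespace CfsgLib.RegUnip

open CfsgLib.Forms CfsgLib.ClMax CfsgLib.RootMax CfsgLib.SUMax Module

variable {F : Type*} [Field F] {σ : F →+* F} {V : Type*} [AddCommGroup V] [Module F V]

/-- Two isotropic vectors with real product `β` and an orthogonal vector of norm one. -/
structure Frame (P : PQ σ V) (x y x' : V) (β : F) : Prop where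
  xx : P.B x x = 0
  zz : P.B x' x' = 0
  yy : P.B y y = 1
  xy : P.B x y = 0
  zy : P.B x' y = 0
  xz : P.B x x' = β
  zx : P.B x' x = β

/-- Coordinates. -/
def vec (x y x' : V) (a b d : F) : V := a • x + b • y + d • x'

variable {P : PQ σ V} {x y x' : V} {β : F}

theorem vec_congr {a b d a' b' d' : F} (h1 : a = a') (h2 : b = b') (h3 : d = d') :
    vec x y x' a b d = vec x y x' a' b' d' := by rw [h1, h2, h3]

theorem vec_x : x = vec x y x' (1 : F) 0 0 := by simp [vec]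

theorem vec_y : y = vec x y x' (0 : F) 1 0 := by simp [vec]

theorem vec_ab (a b : F) : vec x y x' a b 0 = b • y + a • x := by simp [vec, add_comm]

theorem vec_a (a : F) : vec x y x' a 0 0 = a • x := by simp [vec]

theorem smul_vec (t a b d : F) : t • vec x y x' a b d = vec x y x' (t * a) (t * b) (t * d) := by
  simp [vec, smul_smul]

theorem vec_add (a b d a' b' d' : F) :
    vec x y x' a b d + vec x y x' a' b' d' = vec x y x' (a + a') (b + b') (d + d') := by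
  simp only [vec]; module

theorem pow_apply_of_jordan {k : V ≃ₗ[F] V} {μ : F} {w : V} (h1 : k x = μ • x + w)
    (h2 : k w = μ • w) (m : ℕ) : (k ^ (m + 1)) x = μ ^ (m + 1) • x + ((m + 1 : ℕ) * μ ^ m) • w := by
  induction m with
  | zero => simpa using h1
  | succ m ih =>
    rw [pow_succ', LinearEquiv.mul_apply, ih, map_add, map_smul, map_smul, h1, h2]
    push_cast
    module

theorem pow_apply_of_eigen {k : V ≃ₗ[F] V} {μ : F} {w : V} (h : k w = μ • w) (m : ℕ) :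
    (k ^ m) w = μ ^ m • w := by
  induction m with
  | zero => simp
  | succ m ih => rw [pow_succ', LinearEquiv.mul_apply, ih, map_smul, h, smul_smul, pow_succ]

variable (hH : P.IsHerm)
include hH

section frame

variable (fr : Frame P x y x' β)
include fr

theorem Frame.ru (c a b d : F) :
    rt P x y c (vec x y x' a b d) = vec x y x' (a + b - c * β * d) (b - β * d) d := by
  simp only [rt_herm hH, vec, P.B_add_right, P.B_smul_right, fr.xx, fr.yy, fr.xy, fr.xz,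
    P.B_eq_zero_comm.1 fr.xy, P.B_eq_zero_comm.1 fr.zy]
  module

theorem Frame.rU (c a b d : F) :
    rt P x (-y) c (vec x y x' a b d) = vec x y x' (a - b - c * β * d) (b + β * d) d := by
  simp only [rt_herm hH, vec, P.B_add_right, P.B_smul_right, fr.xx, fr.yy, fr.xy, fr.xz,
    P.B_eq_zero_comm.1 fr.xy, P.B_eq_zero_comm.1 fr.zy, map_neg, LinearMap.neg_apply]
  module

theorem Frame.rv (c a b d : F) :
    rt P x' y c (vec x y x' a b d) = vec x y x' a (b - β * a) (d + b - c * β * a) := by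
  simp only [rt_herm hH, vec, P.B_add_right, P.B_smul_right, fr.zz, fr.yy, fr.zy, fr.zx,
    P.B_eq_zero_comm.1 fr.xy, P.B_eq_zero_comm.1 fr.zy]
  module

theorem Frame.rV (c a b d : F) :
    rt P x' (-y) c (vec x y x' a b d) = vec x y x' a (b + β * a) (d - b - c * β * a) := by
  simp only [rt_herm hH, vec, P.B_add_right, P.B_smul_right, fr.zz, fr.yy, fr.zy, fr.zx,
    P.B_eq_zero_comm.1 fr.xy, P.B_eq_zero_comm.1 fr.zy, map_neg, LinearMap.neg_apply]
  module

end frame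

/-- The generic family. -/
theorem tor_gen {q : ℕ} (hq : (q : F) = 0) {μ : F} (hμ : μ ^ (q + 1) = 1) (h1 : μ - 1 ≠ 0)
    (h2 : μ + 1 ≠ 0) (fr : Frame P x y x' (-((μ - 1) * (μ + 1)) ^ 2 / μ ^ 2)) {k : V ≃ₗ[F] V}
    (hk : ∀ v, k v = rt P x y (-(2 * μ ^ 2 + 2 * μ + 1) / ((μ - 1) * (μ + 1) ^ 3))
      (rt P x' y (μ ^ 2 / ((μ - 1) * (μ + 1))) v)) :
    (k ^ q) x = μ⁻¹ • x ∧ (∃ κ : F, (k ^ q) y = μ ^ 2 • y + κ • x) ∧
      ∀ w, P.B x w = 0 → P.B y w = 0 → P.B x' w = 0 → (k ^ q) w = w := by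
  have h0 : μ ≠ 0 := by rintro rfl; simp at hμ
  have hq' : μ ^ q = μ⁻¹ := eq_inv_of_mul_eq_one_left (by rw [← pow_succ, hμ])
  have hx : (k ^ q) x = μ⁻¹ • x := by
    have e1 : k x = μ • x + vec x y x' (μ - μ ^ 2) ((μ ^ 2 - 1) ^ 2) (μ ^ 2 - 1) := by
      conv_lhs => rw [vec_x (x := x) (y := y) (x' := x') (F := F)]
      rw [hk, fr.rv hH, fr.ru hH, ← vec_a (y := y) (x' := x'), vec_add]
      apply vec_congr <;> field_simp <;> ring
    have e2 : k (vec x y x' (μ - μ ^ 2) ((μ ^ 2 - 1) ^ 2) (μ ^ 2 - 1)) =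
        μ • vec x y x' (μ - μ ^ 2) ((μ ^ 2 - 1) ^ 2) (μ ^ 2 - 1) := by
      rw [hk, fr.rv hH, fr.ru hH, smul_vec]
      apply vec_congr <;> field_simp <;> ring
    obtain ⟨m, rfl⟩ : ∃ m, q = m + 1 := Nat.exists_eq_succ_of_ne_zero (by
      rintro rfl; exact h1 (by simpa [sub_eq_zero] using hμ))
    rw [pow_apply_of_jordan e1 e2, hq, hq', zero_mul, zero_smul, add_zero]
  refine ⟨hx, ?_, fun w e1 e2 e3 => ?_⟩
  · have hz : k (vec x y x' (-((μ - 1) * (μ + 1))⁻¹) 1 0) =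
        (μ⁻¹) ^ 2 • vec x y x' (-((μ - 1) * (μ + 1))⁻¹) 1 0 := by
      rw [hk, fr.rv hH, fr.ru hH, smul_vec]
      apply vec_congr <;> field_simp <;> ring
    have h3 := pow_apply_of_eigen hz q
    rw [vec_ab, map_add, map_smul, map_smul, hx, ← pow_mul, mul_comm 2 q, pow_mul, inv_pow, hq',
      inv_inv, one_smul] at h3
    exact ⟨_, by rw [eq_sub_of_add_eq h3, smul_add, add_sub_assoc, smul_smul _ _ x, smul_smul _ _ x,
      ← sub_smul, one_smul]⟩
  · simpa using pow_apply_of_eigen (k := k) (w := w) (μ := (1 : F)) (by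
      rw [hk, rt_of_orth P _ e3 e2, rt_of_orth P _ e1 e2, one_smul]) q

variable {X : Subgroup (V ≃ₗ[F] V)}

theorem mem_core_of_tor (hx : P.B x x = 0) (hX : X ≤ P.isom) {h : V ≃ₗ[F] V} (hh : h ∈ X)
    {t ν κ : F} (h1 : h x = t • x) (h2 : h y = ν • y + κ • x)
    (hgen : ∀ M : Subring F, σ t * ν ∈ M → M = ⊤) {s : F} (hs : s ≠ 0)
    (hy : s • y ∈ dirs hH X hx) : y ∈ core F (dirs hH X hx) := by
  refine smul_mem_of_gen _ (fun s hs => ?_) hgen hs hy
  have := sub_mem (conj_mem_dirs hH hx hX hh h1 hs) (smul_self_mem hH hx (σ t * s * κ))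
  rw [map_smul, h2] at this
  convert this using 1
  module

theorem tor_five {μ : F} (h5 : (5 : F) = 0) (hμ : μ ^ 2 - μ + 1 = 0) (fr : Frame P x y x' 2)
    (hu : Rt P X x y (2 + 2 * μ)) (hv : Rt P X x' y μ) :
    ∃ h ∈ X, h x = (4 + 4 * μ) • x ∧ h y = (1 + 4 * μ) • y + (4 * μ) • x := by
  obtain ⟨u, hu, eu⟩ := hu
  obtain ⟨v, hv, ev⟩ := hv
  refine ⟨v * v * u * v * u * v, by apply_rules [mul_mem], ?_, ?_⟩
  · conv_lhs => rw [vec_x (x := x) (y := y) (x' := x') (F := F)]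
    simp only [LinearEquiv.mul_apply, eu, ev, fr.ru hH, fr.rv hH]
    rw [← vec_a (y := y) (x' := x')]
    apply vec_congr <;> grind
  · conv_lhs => rw [vec_y (x := x) (y := y) (x' := x') (F := F)]
    simp only [LinearEquiv.mul_apply, eu, ev, fr.ru hH, fr.rv hH]
    rw [← vec_ab (x' := x')]
    apply vec_congr <;> grind

theorem tor_eight {μ : F} (h2 : (2 : F) = 0) (hμ : μ ^ 6 + μ ^ 3 + 1 = 0)
    (fr : Frame P x y x' (μ ^ 4 + μ ^ 5)) (hu : Rt P X x y (μ + μ ^ 2 + μ ^ 3 + μ ^ 5))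
    (hv : Rt P X x' y (μ + μ ^ 2 + μ ^ 3 + μ ^ 4)) :
    ∃ h ∈ X, h x = (1 + μ ^ 2 + μ ^ 4) • x ∧
      h y = μ ^ 5 • y + (1 + μ + μ ^ 3 + μ ^ 4 + μ ^ 5) • x := by
  obtain ⟨U, hU, eU⟩ := rt_inv hH hu fr.xx fr.xy
  obtain ⟨W, hW, eW⟩ := rt_inv hH hv fr.zz fr.zy
  obtain ⟨u, hu, eu⟩ := hu
  obtain ⟨v, hv, ev⟩ := hv
  refine ⟨W * U * W * u * u * v, by apply_rules [mul_mem], ?_, ?_⟩
  · conv_lhs => rw [vec_x (x := x) (y := y) (x' := x') (F := F)]
    simp only [LinearEquiv.mul_apply, eu, ev, eU, eW, fr.ru hH, fr.rv hH, fr.rU hH, fr.rV hH, fr.yy]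
    rw [← vec_a (y := y) (x' := x')]
    apply vec_congr <;> grind
  · conv_lhs => rw [vec_y (x := x) (y := y) (x' := x') (F := F)]
    simp only [LinearEquiv.mul_apply, eu, ev, eU, eW, fr.ru hH, fr.rv hH, fr.rU hH, fr.rV hH, fr.yy]
    rw [← vec_ab (x' := x')]
    apply vec_congr <;> grind

end CfsgLib.RegUnip
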